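import Groth.Agent.PlaneInter93.Main

/-! The local ring of a plane curve inside its function field and the colength of `g`. -/

set_option autoImplicit false
set_option linter.style.haveILetI false
set_option linter.unusedSectionVars false

open FunFld WithZero Groth.Agent.FF

namespace Groth.Agent.PlaneInter93

variable {k K : Type*} [Field k] [IsAlgClosed k] [Field K] [Algebra k K]

theorem mem_iff_eval {c : Fin 2 → k} (M : Ideal (MvPolynomial (Fin 2) k)) [M.IsMaximal]
    (hM : M = Ideal.span {MvPolynomial.X 0 - MvPolynomial.C (c 0),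
      MvPolynomial.X 1 - MvPolynomial.C (c 1)}) (q : MvPolynomial (Fin 2) k) :
    q ∈ M ↔ MvPolynomial.eval c q = 0 := by
  have hle : M ≤ RingHom.ker (MvPolynomial.eval c) := by
    rw [hM, Ideal.span_le]
    rintro _ (rfl | rfl) <;> simp [RingHom.mem_ker]
  have hne : RingHom.ker (MvPolynomial.eval c) ≠ ⊤ := RingHom.ker_ne_top _
  rw [← RingHom.mem_ker, ← Ideal.IsMaximal.eq_of_le ‹M.IsMaximal› hne hle]

theorem exists_not_const (hK : IsFunctionField k K) {x y : K}
    (hxy : IntermediateField.adjoin k ({x, y} : Set K) = ⊤) :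
    Transcendental k x ∨ Transcendental k y := by
  obtain ⟨⟨t, ht, -⟩, hcl⟩ := hK
  by_contra h
  simp only [Transcendental, not_or, not_not] at h
  have hle : IntermediateField.adjoin k ({x, y} : Set K) ≤ ⊥ := by
    rw [IntermediateField.adjoin_le_iff]
    rintro z (rfl | rfl)
    · exact IntermediateField.mem_bot.2 (hcl _ h.1)
    · exact IntermediateField.mem_bot.2 (hcl _ h.2)
  have htm : t ∈ (⊥ : IntermediateField k K) := hle (by rw [hxy]; trivial)
  obtain ⟨a, rfl⟩ := IntermediateField.mem_bot.1 htm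
  exact ht (isAlgebraic_algebraMap a)

theorem ker_aeval_eq (hK : IsFunctionField k K) {x y : K}
    (hxy : IntermediateField.adjoin k ({x, y} : Set K) = ⊤) {f : MvPolynomial (Fin 2) k}
    (hf : Irreducible f) (hfxy : MvPolynomial.aeval ![x, y] f = 0) {q : MvPolynomial (Fin 2) k}
    (hq : MvPolynomial.aeval ![x, y] q = 0) : q ∈ Ideal.span {f} := by
  set φ : (MvPolynomial (Fin 2) k) →ₐ[k] K := MvPolynomial.aeval ![x, y]
  haveI hP : (RingHom.ker φ).IsPrime := RingHom.ker_isPrime φ
  have hfp : Prime f := hf.prime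
  haveI hfP : (Ideal.span {f}).IsPrime := (Ideal.span_singleton_prime hf.ne_zero).2 hfp
  have hle : Ideal.span {f} ≤ RingHom.ker φ := by
    rw [Ideal.span_singleton_le_iff_mem]; exact hfxy
  by_contra hqn
  have hlt : Ideal.span {f} < RingHom.ker φ := lt_of_le_of_ne hle fun e => hqn (e ▸ hq)
  have hnotmax : ¬ (RingHom.ker φ).IsMaximal := by
    intro hmax
    have hfld : IsField φ.range := by
      letI := Ideal.Quotient.field (RingHom.ker φ)
      exact MulEquiv.isField (Semifield.toIsField ((MvPolynomial (Fin 2) k) ⧸ RingHom.ker φ))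
        (Ideal.quotientKerEquivRange φ).symm.toMulEquiv
    letI := hfld.toField
    haveI : Algebra.FiniteType k φ.range :=
      Algebra.FiniteType.of_surjective φ.rangeRestrict φ.rangeRestrict_surjective
    haveI : Module.Finite k φ.range := finite_of_finite_type_of_isJacobsonRing k φ.range
    have halg : ∀ z ∈ φ.range, IsAlgebraic k z := fun z hz =>
      ((Algebra.IsIntegral.isIntegral (R := k) (⟨z, hz⟩ : φ.range)).isAlgebraic).algHom φ.range.val
    rcases exists_not_const hK hxy with h | h
    · exact h (halg x ⟨MvPolynomial.X 0, by simp [φ]⟩)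
    · exact h (halg y ⟨MvPolynomial.X 1, by simp [φ]⟩)
  obtain ⟨N, hN, hPN⟩ := Ideal.exists_le_maximal _ hP.ne_top
  have hPN' : RingHom.ker φ < N := lt_of_le_of_ne hPN fun e => hnotmax (e ▸ hN)
  have hbot : (⊥ : Ideal (MvPolynomial (Fin 2) k)) < Ideal.span {f} :=
    bot_lt_iff_ne_bot.2 (by simpa [Ideal.span_singleton_eq_bot] using hf.ne_zero)
  haveI : N.IsPrime := hN.isPrime
  let p0 : PrimeSpectrum (MvPolynomial (Fin 2) k) := ⟨⊥, Ideal.isPrime_bot⟩
  let p1 : PrimeSpectrum (MvPolynomial (Fin 2) k) := ⟨Ideal.span {f}, hfP⟩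
  let p2 : PrimeSpectrum (MvPolynomial (Fin 2) k) := ⟨RingHom.ker φ, hP⟩
  let p3 : PrimeSpectrum (MvPolynomial (Fin 2) k) := ⟨N, hN.isPrime⟩
  let s : LTSeries (PrimeSpectrum (MvPolynomial (Fin 2) k)) :=
    (((RelSeries.singleton _ p0).snoc p1 hbot).snoc p2
      (by simp only [RelSeries.last_snoc]; exact hlt)).snoc p3
      (by simp only [RelSeries.last_snoc]; exact hPN')
  have h3 : (3 : WithBot ℕ∞) ≤ ringKrullDim (MvPolynomial (Fin 2) k) := Order.LTSeries.length_le_krullDim s
  rw [MvPolynomial.ringKrullDim_of_isNoetherianRing, ringKrullDim_eq_zero_of_field, zero_add] at h3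
  norm_num at h3

theorem main (hK : IsFunctionField k K) (x y : K)
    (hxy : IntermediateField.adjoin k ({x, y} : Set K) = ⊤) (f g : MvPolynomial (Fin 2) k)
    (hf : Irreducible f) (hfxy : MvPolynomial.aeval ![x, y] f = 0)
    (hgxy : MvPolynomial.aeval ![x, y] g ≠ 0) (P : Place k K) (c : Fin 2 → k)
    (hc : ∀ i, P.1 (![x, y] i - algebraMap k K (c i)) < 1)
    (M : Ideal (MvPolynomial (Fin 2) k)) [M.IsMaximal]
    (hM : M = Ideal.span {MvPolynomial.X 0 - MvPolynomial.C (c 0),
      MvPolynomial.X 1 - MvPolynomial.C (c 1)}) :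
    ∑ᶠ Q ∈ {Q : Place k K | SameImage ![(1 : K), x, y] P Q},
        Q.ord (MvPolynomial.aeval ![x, y] g) =
      (Module.finrank k (Localization.AtPrime M ⧸
        Ideal.map (algebraMap (MvPolynomial (Fin 2) k) (Localization.AtPrime M))
          (Ideal.span {f, g})) : ℤ) := by
  classical
  set L := Localization.AtPrime M
  set φ : (MvPolynomial (Fin 2) k) →ₐ[k] K := MvPolynomial.aeval ![x, y] with hφ
  set G := φ g with hG
  -- the places over the point
  have hSfin : {Q : Place k K | SameImage ![(1 : K), x, y] P Q}.Finite := by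
    have hsub : ∀ i, Transcendental k (![x, y] i) →
        {Q : Place k K | SameImage ![(1 : K), x, y] P Q}.Finite := by
      intro i hi
      have hne : ![x, y] i - algebraMap k K (c i) ≠ 0 := fun h => hi (by
        rw [sub_eq_zero] at h; rw [h]; exact isAlgebraic_algebraMap _)
      exact (finite_support_ord hK.1 (![x, y] i - algebraMap k K (c i))).subset fun Q hQ =>
        ((val_lt_one_iff Q hne).1 ((sameImage_plane_iff hc Q).1 hQ i)).ne'
    rcases exists_not_const hK hxy with h | h
    · exact hsub 0 h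
    · exact hsub 1 h
  set S := hSfin.toFinset with hS
  have hmemS : ∀ Q, Q ∈ S ↔ ∀ i, Q.1 (![x, y] i - algebraMap k K (c i)) < 1 := fun Q => by
    rw [hS, Set.Finite.mem_toFinset]; exact sameImage_plane_iff hc Q
  have hPS : P ∈ S := (hmemS P).2 hc
  have hev : ∀ s : M.primeCompl, MvPolynomial.eval c (s : (MvPolynomial (Fin 2) k)) ≠ 0 := fun s h =>
    s.2 ((mem_iff_eval M hM _).2 h)
  have hunit : ∀ s : M.primeCompl, IsUnit (φ (s : (MvPolynomial (Fin 2) k))) := fun s => isUnit_iff_ne_zero.2 fun h => by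
    have := val_aeval_eq_one P hc (hev s)
    rw [← hφ, h, map_zero] at this
    exact zero_ne_one this
  let π : L →ₐ[k] K := IsLocalization.liftAlgHom (M := M.primeCompl) (f := φ) hunit
  have hπ : ∀ a : (MvPolynomial (Fin 2) k), π (algebraMap (MvPolynomial (Fin 2) k) L a) = φ a := fun a => by
    simp [π]
  have hπmk : ∀ (a : (MvPolynomial (Fin 2) k)) (s : M.primeCompl), π (IsLocalization.mk' L a s) * φ (s : (MvPolynomial (Fin 2) k)) = φ a := by
    intro a s
    rw [← hπ (s : (MvPolynomial (Fin 2) k)), ← map_mul, IsLocalization.mk'_spec, hπ]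
  let B : Submodule k K := LinearMap.range π.toLinearMap
  have hB1 : ∀ a : (MvPolynomial (Fin 2) k), φ a ∈ B := fun a => ⟨algebraMap (MvPolynomial (Fin 2) k) L a, hπ a⟩
  have hBmul : ∀ u v : K, u ∈ B → v ∈ B → u * v ∈ B := by
    rintro _ _ ⟨a, rfl⟩ ⟨b, rfl⟩
    exact ⟨a * b, map_mul π a b⟩
  have hBinv : ∀ w ∈ B, P.1 w = 1 → w⁻¹ ∈ B := by
    rintro _ ⟨a, rfl⟩ hw
    obtain ⟨⟨q, s⟩, rfl⟩ := IsLocalization.mk'_surjective M.primeCompl a
    simp only [AlgHom.toLinearMap_apply] at hw ⊢
    have h1 : P.1 (φ (s : (MvPolynomial (Fin 2) k))) = 1 := val_aeval_eq_one P hc (hev s)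
    have h2 : P.1 (φ q) = 1 := by rw [← hπmk q s, map_mul, hw, h1, one_mul]
    have hq : q ∈ M.primeCompl := fun hqM => by
      have h0 := (mem_iff_eval M hM q).1 hqM
      have := val_aeval_sub_eval P hc q
      rw [h0, map_zero, sub_zero, ← hφ, h2] at this
      exact lt_irrefl _ this
    refine ⟨IsLocalization.mk' L (s : (MvPolynomial (Fin 2) k)) ⟨q, hq⟩, eq_inv_of_mul_eq_one_left ?_⟩
    show π _ * π _ = 1
    rw [← map_mul, ← IsLocalization.mk'_mul,
      show (s : (MvPolynomial (Fin 2) k)) * q = ((⟨q, hq⟩ * s : M.primeCompl) : (MvPolynomial (Fin 2) k)) from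
        by rw [Submonoid.coe_mul, mul_comm], IsLocalization.mk'_self', map_one]
  have hBI : B ≤ I S (fun _ => 0) := by
    rintro _ ⟨a, rfl⟩ Q hQ
    obtain ⟨⟨q, s⟩, rfl⟩ := IsLocalization.mk'_surjective M.primeCompl a
    simp only [AlgHom.toLinearMap_apply, neg_zero, exp_zero]
    have h1 : Q.1 (φ (s : (MvPolynomial (Fin 2) k))) = 1 := val_aeval_eq_one Q ((hmemS Q).1 hQ) (hev s)
    have h2 : Q.1 (φ q) ≤ 1 := val_le_one_of_cong Q (val_aeval_sub_eval Q ((hmemS Q).1 hQ) q)
    rwa [← hπmk q s, map_mul, h1, mul_one] at h2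
  -- high vanishing implies membership in the local ring
  obtain ⟨N, hN⟩ : ∃ N : ℕ, I S (fun _ => (N : ℤ)) ≤ B := by
    have core : ∀ {n : ℕ} (_ : 1 ≤ n) (ψ : Fin (n + 1) → K), LinearIndependent k ψ → ψ 0 = 1 →
        IntermediateField.adjoin k (Set.range fun i => ψ i / ψ 0) = ⊤ →
        x ∈ Algebra.adjoin k (Set.range ψ) → y ∈ Algebra.adjoin k (Set.range ψ) →
        (∀ i, ψ i ∈ B) → ∃ N : ℕ, I S (fun _ => (N : ℤ)) ≤ B := by
      intro n hn ψ hψ h0 hbir hx hy hB
      have hψP : ∀ i, P.1 (ψ i) ≤ 1 := fun i => by simpa using hBI (hB i) P hPS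
      obtain ⟨N, hN⟩ := FFWr.exists_bound_inLocRing hK hn hψ hbir P
      refine ⟨N, fun z hz => ?_⟩
      obtain ⟨j, hj0, hj, u, hu, w, hw, hwP, huw⟩ := hN z fun Q hQ => hz Q ((hmemS Q).2 fun i => by
        obtain ⟨d, hdP, hdQ⟩ := sameImage_cong h0 hψP hQ
          (show ![x, y] i ∈ Algebra.adjoin k (Set.range ψ) by fin_cases i <;> simpa)
        rwa [const_unique P (hc i) hdP])
      have hj1 : P.1 (ψ j) = 1 := le_antisymm (hψP j) (by simpa [h0] using hj 0)
      have hsub : ∀ v ∈ Algebra.adjoin k (Set.range fun i => ψ i / ψ j), v ∈ B := by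
        intro v hv
        induction hv using Algebra.adjoin_induction with
        | mem v hv =>
          obtain ⟨i, rfl⟩ := hv
          exact hBmul _ _ (hB i) (hBinv _ (hB j) hj1) |> fun h => by simpa [div_eq_mul_inv] using h
        | algebraMap a => exact ⟨algebraMap k L a, π.commutes a⟩
        | add v w _ _ hv hw => exact add_mem hv hw
        | mul v w _ _ hv hw => exact hBmul _ _ hv hw
      have hw0 : w ≠ 0 := fun e => by rw [e, map_zero] at hwP; exact zero_ne_one hwP
      rw [show z = u * w⁻¹ by rw [← huw, mul_inv_cancel_right₀ hw0]]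
      exact hBmul _ _ (hsub u hu) (hBinv w (hsub w hw) hwP)
    have hBx : ∀ i, ![(1 : K), x, y] i ∈ B := by
      intro i; fin_cases i
      · simpa using hB1 1
      · simpa [φ] using hB1 (MvPolynomial.X 0)
      · simpa [φ] using hB1 (MvPolynomial.X 1)
    by_cases hli : LinearIndependent k ![(1 : K), x, y]
    · refine core (by norm_num) _ hli rfl (eq_top_iff.2 ?_) (Algebra.subset_adjoin ⟨1, rfl⟩)
        (Algebra.subset_adjoin ⟨2, rfl⟩) hBx
      rw [← hxy]
      refine IntermediateField.adjoin.mono _ _ _ ?_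
      rintro z (rfl | rfl)
      · exact ⟨1, by simp⟩
      · exact ⟨2, by simp⟩
    · -- a line: one of the coordinates generates
      obtain ⟨z, hz, hzt, hxm, hym⟩ : ∃ z ∈ B, Transcendental k z ∧
          x ∈ Algebra.adjoin k ({z} : Set K) ∧ y ∈ Algebra.adjoin k ({z} : Set K) := by
        rw [Fintype.not_linearIndependent_iff] at hli
        obtain ⟨a, ha, i, hi⟩ := hli
        simp only [Fin.sum_univ_three, Matrix.cons_val_zero, Matrix.cons_val_one, Matrix.cons_val,
          Algebra.smul_def, mul_one] at ha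
        have hxB : x ∈ B := hBx 1
        have hyB : y ∈ B := hBx 2
        by_cases h2 : a 2 = 0
        · have h1 : a 1 ≠ 0 := by
            intro h1
            rw [h1, h2] at ha
            simp at ha
            fin_cases i <;> simp_all
          have hx : x = algebraMap k K (-(a 0) / a 1) := by
            have : (algebraMap k K (a 1)) ≠ 0 := (map_ne_zero _).2 h1
            rw [map_div₀, map_neg, eq_div_iff this]
            rw [h2, map_zero, zero_mul, add_zero] at ha
            linear_combination ha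
          have hxalg : IsAlgebraic k x := by rw [hx]; exact isAlgebraic_algebraMap _
          exact ⟨y, hyB, (exists_not_const hK hxy).resolve_left (fun h => h hxalg),
            hx ▸ Subalgebra.algebraMap_mem _ _, Algebra.subset_adjoin rfl⟩
        · have hy : y = algebraMap k K (-(a 0) / a 2) + algebraMap k K (-(a 1) / a 2) * x := by
            have : (algebraMap k K (a 2)) ≠ 0 := (map_ne_zero _).2 h2
            simp only [map_div₀, map_neg]
            field_simp
            linear_combination ha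
          have hym : y ∈ Algebra.adjoin k ({x} : Set K) :=
            hy ▸ add_mem (Subalgebra.algebraMap_mem _ _)
              (mul_mem (Subalgebra.algebraMap_mem _ _) (Algebra.subset_adjoin rfl))
          refine ⟨x, hxB, ?_, Algebra.subset_adjoin rfl, hym⟩
          rcases exists_not_const hK hxy with h | h
          · exact h
          · intro hxalg
            refine h (?_ : IsAlgebraic k y)
            obtain ⟨b, rfl⟩ := hK.2 x hxalg
            rw [hy, ← map_mul, ← map_add]
            exact isAlgebraic_algebraMap _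
      have hle : Algebra.adjoin k ({z} : Set K) ≤ Algebra.adjoin k (Set.range ![(1 : K), z]) :=
        Algebra.adjoin_mono (by rintro w rfl; exact ⟨1, rfl⟩)
      refine core le_rfl ![(1 : K), z] ?_ rfl (eq_top_iff.2 ?_) (hle hxm) (hle hym) ?_
      · rw [LinearIndependent.pair_iff]
        intro s t hst
        rw [Algebra.smul_def, Algebra.smul_def, mul_one] at hst
        have ht : t = 0 := by
          by_contra ht
          have : (algebraMap k K t) ≠ 0 := (map_ne_zero _).2 ht
          have hz' : z = algebraMap k K (-s / t) := by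
            rw [map_div₀, map_neg, eq_div_iff this]; linear_combination hst
          exact hzt (hz' ▸ isAlgebraic_algebraMap _)
        refine ⟨(algebraMap k K).injective ?_, ht⟩
        rw [ht, map_zero, zero_mul, add_zero] at hst
        rw [hst, map_zero]
      · rw [← hxy, IntermediateField.adjoin_le_iff]
        have h2 : Algebra.adjoin k (Set.range ![(1 : K), z]) ≤ (IntermediateField.adjoin k
            (Set.range fun i => ![(1 : K), z] i / ![(1 : K), z] 0)).toSubalgebra := by
          refine Algebra.adjoin_le ?_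
          rintro w ⟨i, rfl⟩
          exact IntermediateField.subset_adjoin _ _ ⟨i, by simp⟩
        rintro w (rfl | rfl)
        · exact h2 (hle hxm)
        · exact h2 (hle hym)
      · intro i; fin_cases i
        · simpa using hBx 0
        · simpa using hz
  -- dimension count
  set ν : Place k K → ℤ := fun Q => Q.ord G with hν
  let mG : K ≃ₗ[k] K := LinearEquiv.ofBijective (LinearMap.mulLeft k G)
    ⟨fun a b h => mul_left_cancel₀ hgxy h, fun b => ⟨G⁻¹ * b, mul_inv_cancel_left₀ hgxy b⟩⟩
  have hmG : ∀ z, (mG : K →ₗ[k] K) z = G * z := fun z => rfl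
  set IN := I S (fun _ => (N : ℤ)) with hIN
  set IN' := I S (fun Q => N + ν Q) with hIN'
  have hmapI : IN.map (mG : K →ₗ[k] K) = IN' := by
    ext z
    constructor
    · rintro ⟨w, hw, rfl⟩ Q hQ
      rw [hmG, map_mul, val_eq_exp_ord Q hgxy]
      refine (mul_le_mul' le_rfl (hw Q hQ)).trans ?_
      rw [← exp_add, exp_le_exp]
      simp only [hν, hG]
      omega
    · intro hz
      refine ⟨G⁻¹ * z, fun Q hQ => ?_, by rw [hmG, mul_inv_cancel_left₀ hgxy]⟩
      rw [map_mul, map_inv₀, val_eq_exp_ord Q hgxy, ← exp_neg]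
      refine (mul_le_mul' le_rfl (hz Q hQ)).trans ?_
      rw [← exp_add, exp_le_exp]
      simp only [hν, hG]
      omega
  have hν0 : ∀ Q ∈ S, 0 ≤ ν Q := fun Q hQ => by
    have := hBI (hB1 g) Q hQ
    rw [neg_zero, exp_zero] at this
    exact (val_le_one_iff Q G).1 this
  set gB := B.map (mG : K →ₗ[k] K) with hgB
  have h1 : IN' ≤ gB := hmapI ▸ Submodule.map_mono hN
  have h2 : gB ≤ B := by
    rintro _ ⟨w, hw, rfl⟩
    exact hBmul _ _ (hB1 g) hw
  have h3 : IN' ≤ IN := I_anti fun Q hQ => by have := hν0 Q hQ; omega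
  obtain ⟨n, hn⟩ := Int.eq_ofNat_of_zero_le (Finset.sum_nonneg hν0)
  have hd1 : qdim IN' IN = n :=
    (qdim_I hK S (fun Q => N + ν Q) n (fun _ => (N : ℤ)) (fun Q hQ => by have := hν0 Q hQ; omega)
      (by rw [← hn]; exact Finset.sum_congr rfl fun Q _ => by ring)).2
  have hfin : FiniteDimensional k (B.map IN'.mkQ) := by
    obtain ⟨n₀, hn₀⟩ := Int.eq_ofNat_of_zero_le (Finset.sum_nonneg (s := S)
      (f := fun Q => (N : ℤ) + ν Q - 0) fun Q hQ => by have := hν0 Q hQ; omega)
    haveI := (qdim_I hK S (fun Q => N + ν Q) n₀ (fun _ => 0)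
      (fun Q hQ => by have := hν0 Q hQ; omega) hn₀).1
    exact Submodule.finiteDimensional_of_le (Submodule.map_mono hBI)
  have e1 : qdim IN' B = qdim IN' gB + qdim gB B := qdim_add h1 h2 hfin
  have e2 : qdim IN' B = qdim IN' IN + qdim IN B := qdim_add h3 hN hfin
  have e3 : qdim IN' gB = qdim IN B := by rw [← hmapI, hgB, qdim_map]
  -- identify the quotient
  set J : Ideal L := Ideal.map (algebraMap (MvPolynomial (Fin 2) k) L) (Ideal.span {f, g}) with hJ
  let ψ : L →ₗ[k] K ⧸ gB := gB.mkQ ∘ₗ π.toLinearMap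
  have hfJ : algebraMap (MvPolynomial (Fin 2) k) L f ∈ J := Ideal.mem_map_of_mem _ (Ideal.subset_span (by simp))
  have hgJ : algebraMap (MvPolynomial (Fin 2) k) L g ∈ J := Ideal.mem_map_of_mem _ (Ideal.subset_span (by simp))
  have hker : LinearMap.ker ψ = J.restrictScalars k := by
    ext a
    rw [LinearMap.mem_ker, Submodule.restrictScalars_mem]
    show gB.mkQ (π a) = 0 ↔ _
    rw [Submodule.mkQ_apply, Submodule.Quotient.mk_eq_zero]
    constructor
    · rintro ⟨w, ⟨b, rfl⟩, hw⟩
      rw [hmG] at hw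
      have h0 : π (a - algebraMap (MvPolynomial (Fin 2) k) L g * b) = 0 := by
        rw [map_sub, map_mul, hπ, sub_eq_zero]; exact hw.symm
      obtain ⟨⟨q, s⟩, hqs⟩ := IsLocalization.mk'_surjective M.primeCompl (a - algebraMap (MvPolynomial (Fin 2) k) L g * b)
      rw [← hqs] at h0
      have hq : φ q = 0 := by rw [← hπmk q s, h0, zero_mul]
      have hqf := ker_aeval_eq hK hxy hf hfxy hq
      obtain ⟨r, rfl⟩ := Ideal.mem_span_singleton'.1 hqf
      have hmem : IsLocalization.mk' L (r * f) s ∈ J := by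
        rw [IsLocalization.mk'_eq_mul_mk'_one, map_mul]
        exact J.mul_mem_right _ (J.mul_mem_left _ hfJ)
      simp only at hqs
      rw [hqs] at hmem
      simpa using J.add_mem hmem (J.mul_mem_right b hgJ)
    · intro ha
      rw [hJ, Ideal.map_span, Set.image_pair, Ideal.mem_span_pair] at ha
      obtain ⟨u, v, rfl⟩ := ha
      rw [map_add, map_mul, map_mul, hπ, hπ, show φ f = 0 from hfxy, mul_zero, zero_add]
      exact ⟨π v, ⟨v, rfl⟩, by rw [hmG, mul_comm]⟩
  have hrange : LinearMap.range ψ = B.map gB.mkQ := LinearMap.range_comp _ _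
  have hfr : Module.finrank k (L ⧸ J) = qdim gB B := by
    have := ψ.quotKerEquivRange.finrank_eq
    rw [hrange, hker, (Submodule.Quotient.restrictScalarsEquiv k J).finrank_eq] at this
    exact this
  rw [hfr, finsum_mem_eq_finite_toFinset_sum _ hSfin]
  change ∑ Q ∈ S, ν Q = _
  rw [hn]
  have : qdim gB B = n := by omega
  rw [this]

end Groth.Agent.PlaneInter93
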