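import Groth.Agent.FFWr.Fibre
import Groth.Agent.FF.Approx
import Groth.Agent.FF.LinSys
import Groth.Agent.FF.Exist
import Mathlib.RingTheory.KrullDimension.Polynomial
import Mathlib.RingTheory.Localization.AtPrime.Basic

/-! Intersection multiplicity of a plane curve with a polynomial as the colength of the local ring. -/

set_option autoImplicit false
set_option linter.style.haveILetI false
set_option linter.unusedSectionVars false

open FunFld WithZero Groth.Agent.FF

namespace Groth.Agent.PlaneInter93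

section Dim

variable {k V : Type*} [Field k] [AddCommGroup V] [Module k V]

/-- `dim_k C/A` for `A ≤ C` -/
noncomputable def qdim (A C : Submodule k V) : ℕ := Module.finrank k (C.map A.mkQ)

theorem qdim_add {A C E : Submodule k V} (hAC : A ≤ C) (hCE : C ≤ E)
    (hfin : FiniteDimensional k (E.map A.mkQ)) : qdim A E = qdim A C + qdim C E := by
  let φ : (E.map A.mkQ) →ₗ[k] V ⧸ C := (A.mapQ C LinearMap.id hAC).domRestrict (E.map A.mkQ)
  have hr : LinearMap.range φ = E.map C.mkQ := by
    ext w
    constructor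
    · rintro ⟨⟨_, e, he, rfl⟩, rfl⟩
      exact ⟨e, he, rfl⟩
    · rintro ⟨e, he, rfl⟩
      exact ⟨⟨A.mkQ e, e, he, rfl⟩, rfl⟩
  have hk : LinearMap.ker φ = (C.map A.mkQ).comap (E.map A.mkQ).subtype := by
    ext ⟨w, e, he, rfl⟩
    constructor
    · intro h
      exact ⟨e, (Submodule.Quotient.mk_eq_zero C).1 h, rfl⟩
    · rintro ⟨c, hc, hce⟩
      show A.mapQ C LinearMap.id hAC (A.mkQ e) = 0
      rw [← show A.mkQ c = A.mkQ e from hce]
      exact (Submodule.Quotient.mk_eq_zero C).2 hc
  have := φ.finrank_range_add_finrank_ker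
  rw [hr, hk, (Submodule.comapSubtypeEquivOfLe (Submodule.map_mono hCE)).finrank_eq] at this
  unfold qdim
  omega

theorem qdim_self (A : Submodule k V) : qdim A A = 0 := by
  unfold qdim
  rw [Submodule.mkQ_map_self, finrank_bot]

theorem qdim_map (L : V ≃ₗ[k] V) (A C : Submodule k V) :
    qdim (A.map (L : V →ₗ[k] V)) (C.map (L : V →ₗ[k] V)) = qdim A C := by
  let e := Submodule.Quotient.equiv A (A.map (L : V →ₗ[k] V)) L rfl
  unfold qdim
  rw [← LinearEquiv.finrank_map_eq e (C.map A.mkQ)]
  have h : (C.map (L : V →ₗ[k] V)).map (A.map (L : V →ₗ[k] V)).mkQ =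
      (C.map A.mkQ).map (e : (V ⧸ A) →ₗ[k] (V ⧸ A.map (L : V →ₗ[k] V))) := by
    rw [← Submodule.map_comp, ← Submodule.map_comp]
    rfl
  rw [h]

end Dim

variable {k K : Type*} [Field k] [Field K] [Algebra k K]

/-- elements of order at least `a Q` at every `Q ∈ S` -/
def I (S : Finset (Place k K)) (a : Place k K → ℤ) : Submodule k K where
  carrier := {z | ∀ Q ∈ S, Q.1 z ≤ exp (-(a Q))}
  add_mem' := fun hx hy Q hQ => Valuation.map_add_le _ (hx Q hQ) (hy Q hQ)
  zero_mem' := fun Q _ => by rw [map_zero]; exact zero_le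
  smul_mem' := fun c z hz Q hQ => by
    rw [Algebra.smul_def, map_mul]
    exact (mul_le_of_le_one_left zero_le (Q.2.1 c)).trans (hz Q hQ)

theorem mem_I {S : Finset (Place k K)} {a : Place k K → ℤ} {z : K} :
    z ∈ I S a ↔ ∀ Q ∈ S, Q.1 z ≤ exp (-(a Q)) := Iff.rfl

theorem I_anti {S : Finset (Place k K)} {a b : Place k K → ℤ} (h : ∀ Q ∈ S, a Q ≤ b Q) : I S b ≤ I S a :=
  fun _ hz Q hQ => (hz Q hQ).trans (exp_le_exp.2 (by have := h Q hQ; omega))

theorem qdim_I [IsAlgClosed k] (hK : IsFunctionField k K) (S : Finset (Place k K)) (b : Place k K → ℤ) :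
    ∀ (n : ℕ) (a : Place k K → ℤ), (∀ Q ∈ S, a Q ≤ b Q) → (∑ Q ∈ S, (b Q - a Q)) = n →
      FiniteDimensional k ((I S a).map (I S b).mkQ) ∧ qdim (I S b) (I S a) = n := by
  classical
  intro n
  induction n with
  | zero =>
    intro a hab hsum
    have h := (Finset.sum_eq_zero_iff_of_nonneg fun Q hQ => by have := hab Q hQ; omega).1 hsum
    have heq : I S a = I S b :=
      le_antisymm (I_anti fun Q hQ => by have := h Q hQ; omega) (I_anti hab)
    rw [heq, qdim_self, Submodule.mkQ_map_self]
    exact ⟨inferInstance, rfl⟩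
  | succ n ih =>
    intro a hab hsum
    obtain ⟨Q₀, hQ₀, hlt⟩ : ∃ Q ∈ S, a Q < b Q := by
      by_contra hno
      push Not at hno
      have : ∑ Q ∈ S, (b Q - a Q) ≤ 0 := Finset.sum_nonpos fun Q hQ => by have := hno Q hQ; omega
      omega
    let a' := Function.update a Q₀ (a Q₀ + 1)
    have ha'0 : a' Q₀ = a Q₀ + 1 := Function.update_self ..
    have ha'ne : ∀ Q, Q ≠ Q₀ → a' Q = a Q := fun Q h => Function.update_of_ne h ..
    have ha'b : ∀ Q ∈ S, a' Q ≤ b Q := fun Q hQ => by
      rcases eq_or_ne Q Q₀ with rfl | h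
      · omega
      · rw [ha'ne Q h]; exact hab Q hQ
    have haa' : ∀ Q ∈ S, a Q ≤ a' Q := fun Q _ => by
      rcases eq_or_ne Q Q₀ with rfl | h
      · omega
      · rw [ha'ne Q h]
    have hsum' : ∑ Q ∈ S, (b Q - a' Q) = n := by
      rw [← Finset.add_sum_erase _ _ hQ₀] at hsum ⊢
      rw [Finset.sum_congr rfl fun Q hQ => by rw [ha'ne Q (Finset.ne_of_mem_erase hQ)], ha'0]
      push_cast at hsum
      omega
    obtain ⟨hfin, hdim⟩ := ih a' ha'b hsum'
    obtain ⟨u, hu⟩ := approx_eq S (fun _ => (0 : K)) (fun Q => -(a Q))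
    have huI : u ∈ I S a := fun Q hQ => by
      have := (hu Q hQ).le
      simpa using this
    have hu0 : Q₀.1 u = exp (-(a Q₀)) := by simpa using hu Q₀ hQ₀
    have hdec : ∀ z ∈ I S a, ∃ c : k, z - c • u ∈ I S a' := by
      intro z hz
      have hu_ne : u ≠ 0 := fun h => by rw [h, map_zero] at hu0; exact exp_ne_zero hu0.symm
      have hle : Q₀.1 (z / u) ≤ 1 := by
        rw [map_div₀, hu0, div_le_one₀ exp_pos]; exact hz Q₀ hQ₀
      obtain ⟨c, hc⟩ := exists_residue hK Q₀ hle
      refine ⟨c, fun Q hQ => ?_⟩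
      rcases eq_or_ne Q Q₀ with rfl | h
      · have h1 : Q.1 (z / u - algebraMap k K c) ≤ exp (-1 : ℤ) := by
          simpa using (lt_exp_iff _ 0).1 (by rwa [exp_zero])
        have h2 : z - c • u = (z / u - algebraMap k K c) * u := by
          rw [Algebra.smul_def]; field_simp
        rw [h2, map_mul, ha'0, hu0]
        refine (mul_le_mul' h1 le_rfl).trans ?_
        rw [← exp_add, exp_le_exp]; omega
      · rw [ha'ne Q h]
        exact (sub_mem hz ((I S a).smul_mem c huI)) Q hQ
    have hle : (I S a).map (I S b).mkQ ≤ (I S a').map (I S b).mkQ ⊔ Submodule.span k {(I S b).mkQ u} := by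
      rintro _ ⟨z, hz, rfl⟩
      obtain ⟨c, hc⟩ := hdec z hz
      rw [show z = (z - c • u) + c • u by abel, map_add, map_smul]
      exact Submodule.add_mem_sup (Submodule.mem_map_of_mem hc)
        (Submodule.smul_mem _ c (Submodule.mem_span_singleton_self _))
    haveI : FiniteDimensional k (Submodule.span k {(I S b).mkQ u}) := inferInstance
    haveI := hfin
    have hfinA : FiniteDimensional k ((I S a).map (I S b).mkQ) := Submodule.finiteDimensional_of_le hle
    refine ⟨hfinA, ?_⟩
    have hone : qdim (I S a') (I S a) = 1 := by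
      have heq : (I S a).map (I S a').mkQ = Submodule.span k {(I S a').mkQ u} := by
        refine le_antisymm ?_ ?_
        · rintro _ ⟨z, hz, rfl⟩
          obtain ⟨c, hc⟩ := hdec z hz
          rw [show z = (z - c • u) + c • u by abel, map_add, map_smul,
            show (I S a').mkQ (z - c • u) = 0 from (Submodule.Quotient.mk_eq_zero _).2 hc, zero_add]
          exact Submodule.smul_mem _ c (Submodule.mem_span_singleton_self _)
        · rw [Submodule.span_singleton_le_iff_mem]
          exact Submodule.mem_map_of_mem huI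
      unfold qdim
      rw [heq]
      refine finrank_span_singleton fun h => ?_
      have h' := (Submodule.Quotient.mk_eq_zero _).1 h Q₀ hQ₀
      rw [hu0, ha'0, exp_le_exp] at h'
      omega
    rw [qdim_add (I_anti ha'b) (I_anti haa') hfinA, hdim, hone]

variable {x y : K} {c : Fin 2 → k}

theorem val_aeval_sub_eval (Q : Place k K) (hc : ∀ i, Q.1 (![x, y] i - algebraMap k K (c i)) < 1)
    (q : MvPolynomial (Fin 2) k) :
    Q.1 (MvPolynomial.aeval ![x, y] q - algebraMap k K (MvPolynomial.eval c q)) < 1 := by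
  induction q using MvPolynomial.induction_on with
  | C a => simp
  | add p q hp hq =>
    rw [map_add, map_add, map_add, add_sub_add_comm]
    exact Valuation.map_add_lt _ hp hq
  | mul_X p i hp =>
    rw [map_mul, map_mul, MvPolynomial.aeval_X, MvPolynomial.eval_X, map_mul]
    set a := MvPolynomial.aeval ![x, y] p
    set a0 := algebraMap k K (MvPolynomial.eval c p)
    have ha : Q.1 a ≤ 1 := by
      rw [show a = (a - a0) + a0 by ring]
      exact Valuation.map_add_le _ hp.le (val_const_le Q _)
    rw [show a * ![x, y] i - a0 * algebraMap k K (c i) =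
      a * (![x, y] i - algebraMap k K (c i)) + (a - a0) * algebraMap k K (c i) by ring]
    refine Valuation.map_add_lt _ ?_ ?_
    · rw [map_mul]; exact lt_of_le_of_lt (mul_le_of_le_one_left zero_le ha) (hc i)
    · rw [map_mul]; exact lt_of_le_of_lt (mul_le_of_le_one_right zero_le (val_const_le Q _)) hp

theorem val_aeval_eq_one (Q : Place k K) (hc : ∀ i, Q.1 (![x, y] i - algebraMap k K (c i)) < 1)
    {q : MvPolynomial (Fin 2) k} (hq : MvPolynomial.eval c q ≠ 0) :
    Q.1 (MvPolynomial.aeval ![x, y] q) = 1 := by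
  have h := val_aeval_sub_eval Q hc q
  rw [show MvPolynomial.aeval ![x, y] q = (MvPolynomial.aeval ![x, y] q -
    algebraMap k K (MvPolynomial.eval c q)) + algebraMap k K (MvPolynomial.eval c q) by ring,
    Valuation.map_add_eq_of_lt_right _ (by rwa [val_const Q hq]), val_const Q hq]

/-- congruence to constants is shared by the places with the same image -/
theorem sameImage_cong {n : ℕ} {φ : Fin (n + 1) → K} (hφ0 : φ 0 = 1) {P Q : Place k K}
    (hP : ∀ i, P.1 (φ i) ≤ 1) (h : SameImage φ P Q) {z : K} (hz : z ∈ Algebra.adjoin k (Set.range φ)) :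
    ∃ d : k, P.1 (z - algebraMap k K d) < 1 ∧ Q.1 (z - algebraMap k K d) < 1 := by
  obtain ⟨j, hj0, hPj, -, hd⟩ := h
  choose d hdP hdQ using hd
  have hj1 : P.1 (φ j) = 1 := le_antisymm (hP j) (by simpa [hφ0] using hPj 0)
  have hd0 : d 0 ≠ 0 := fun e => by
    have := hdP 0
    rw [e, map_zero, sub_zero, map_div₀, hφ0, map_one, hj1, div_one] at this
    exact lt_irrefl _ this
  have key : ∀ (R : Place k K), (∀ i, R.1 (φ i / φ j - algebraMap k K (d i)) < 1) →
      ∀ i, R.1 (φ i - algebraMap k K (d i / d 0)) < 1 := by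
    intro R hR i
    set r0 := φ 0 / φ j with hr0
    have hr1 : R.1 r0 = 1 := by
      rw [show r0 = (r0 - algebraMap k K (d 0)) + algebraMap k K (d 0) by ring,
        Valuation.map_add_eq_of_lt_right _ (by rw [val_const R hd0]; exact hR 0), val_const R hd0]
    have hd0K : algebraMap k K (d 0) ≠ 0 := (map_ne_zero _).2 hd0
    have e : (φ i - algebraMap k K (d i / d 0)) * r0 = (φ i / φ j - algebraMap k K (d i)) -
        algebraMap k K (d i / d 0) * (r0 - algebraMap k K (d 0)) := by
      rw [hr0, hφ0, map_div₀]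
      field_simp
      ring
    have h2 : R.1 ((φ i - algebraMap k K (d i / d 0)) * r0) < 1 := by
      rw [e]
      refine lt_of_le_of_lt (Valuation.map_sub _ _ _) (max_lt (hR i) ?_)
      rw [map_mul]
      exact lt_of_le_of_lt (mul_le_of_le_one_left zero_le (val_const_le R _)) (hR 0)
    rwa [map_mul, hr1, mul_one] at h2
  induction hz using Algebra.adjoin_induction with
  | mem z hz =>
    obtain ⟨i, rfl⟩ := hz
    exact ⟨_, key P hdP i, key Q hdQ i⟩
  | algebraMap a => exact ⟨a, by simp, by simp⟩
  | add z w _ _ hz hw =>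
    obtain ⟨a, ha1, ha2⟩ := hz
    obtain ⟨b, hb1, hb2⟩ := hw
    exact ⟨a + b, by rw [map_add, add_sub_add_comm]; exact Valuation.map_add_lt _ ha1 hb1,
      by rw [map_add, add_sub_add_comm]; exact Valuation.map_add_lt _ ha2 hb2⟩
  | mul z w _ _ hz hw =>
    obtain ⟨a, ha1, ha2⟩ := hz
    obtain ⟨b, hb1, hb2⟩ := hw
    have hmul : ∀ R : Place k K, R.1 (z - algebraMap k K a) < 1 → R.1 (w - algebraMap k K b) < 1 →
        R.1 (z * w - algebraMap k K (a * b)) < 1 := by
      intro R h1 h2
      rw [map_mul, show z * w - algebraMap k K a * algebraMap k K b =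
        (z - algebraMap k K a) * (w - algebraMap k K b) + algebraMap k K a * (w - algebraMap k K b) +
          (z - algebraMap k K a) * algebraMap k K b by ring]
      refine Valuation.map_add_lt _ (Valuation.map_add_lt _ ?_ ?_) ?_ <;> rw [map_mul]
      · exact lt_of_le_of_lt (mul_le_of_le_one_left zero_le h1.le) h2
      · exact lt_of_le_of_lt (mul_le_of_le_one_left zero_le (val_const_le R _)) h2
      · exact lt_of_le_of_lt (mul_le_of_le_one_right zero_le (val_const_le R _)) h1
    exact ⟨a * b, hmul P ha1 hb1, hmul Q ha2 hb2⟩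

theorem const_unique (P : Place k K) {z : K} {a b : k} (ha : P.1 (z - algebraMap k K a) < 1)
    (hb : P.1 (z - algebraMap k K b) < 1) : a = b := by
  by_contra hne
  have h : P.1 (algebraMap k K (a - b)) < 1 := by
    rw [show algebraMap k K (a - b) = (z - algebraMap k K b) - (z - algebraMap k K a) by
      rw [map_sub]; ring]
    exact lt_of_le_of_lt (Valuation.map_sub _ _ _) (max_lt hb ha)
  rw [val_const P (sub_ne_zero.2 hne)] at h
  exact lt_irrefl _ h

theorem val_le_one_of_cong (P : Place k K) {z : K} {a : k} (ha : P.1 (z - algebraMap k K a) < 1) :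
    P.1 z ≤ 1 := by
  rw [show z = (z - algebraMap k K a) + algebraMap k K a by ring]
  exact Valuation.map_add_le _ ha.le (val_const_le P a)

theorem sameImage_plane_iff {P : Place k K} (hc : ∀ i, P.1 (![x, y] i - algebraMap k K (c i)) < 1)
    (Q : Place k K) : SameImage ![(1 : K), x, y] P Q ↔
      ∀ i, Q.1 (![x, y] i - algebraMap k K (c i)) < 1 := by
  have hP : ∀ (R : Place k K), (∀ i, R.1 (![x, y] i - algebraMap k K (c i)) < 1) →
      ∀ i, R.1 (![(1 : K), x, y] i) ≤ 1 := by
    intro R hR i
    fin_cases i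
    · simp
    · exact val_le_one_of_cong R (hR 0)
    · exact val_le_one_of_cong R (hR 1)
  constructor
  · intro h i
    have hmem : ![x, y] i ∈ Algebra.adjoin k (Set.range ![(1 : K), x, y]) :=
      Algebra.subset_adjoin ⟨i.succ, by fin_cases i <;> rfl⟩
    obtain ⟨d, hdP, hdQ⟩ := sameImage_cong (φ := ![(1 : K), x, y]) rfl (hP P hc) h hmem
    rwa [const_unique P (hc i) hdP]
  · intro hQ
    refine ⟨0, one_ne_zero, fun i => ?_, fun i => ?_, fun i => ?_⟩
    · simpa using hP P hc i
    · simpa using hP Q hQ i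
    · fin_cases i
      · exact ⟨1, by simp, by simp⟩
      · exact ⟨c 0, by simpa using hc 0, by simpa using hQ 0⟩
      · exact ⟨c 1, by simpa using hc 1, by simpa using hQ 1⟩

end Groth.Agent.PlaneInter93
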